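import Groth.Prelude.Def_W4c5stacksedinertiaGpd
import Mathlib.GroupTheory.GroupAction.Quotient
import Mathlib.LinearAlgebra.Eigenspace.Basic
import Mathlib.RingTheory.Polynomial.Pochhammer
import Mathlib.Data.Nat.Choose.Sum
import Mathlib.Tactic.Group
import Mathlib.Tactic.FieldSimp
import Mathlib.GroupTheory.Index
import Mathlib.LinearAlgebra.Eigenspace.Minpoly
import Mathlib.Algebra.Polynomial.AlgebraMap
import Mathlib.Algebra.Polynomial.FieldDivision
import Mathlib.Data.Fintype.CardEmbedding

/-!
# Inertia operators on finite groupoids are falling factorials of the inertia operator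
-/

universe u

namespace InertiaLib

open W4c5stacksedinertia Finset
open Polynomial (aeval X aeval_X)
open scoped Polynomial

variable {G : Type u} [Group G]

/-- A presentation of a finite group is isomorphic to it. -/
noncomputable def ofEquiv (G : Type u) [Group G] [Finite G] : (FinGrp.of G).carrier ≃* G :=
  { (Nat.equivFinOfCardPos (α := G) Nat.card_pos.ne').symm with
    map_mul' := fun a b => (Nat.equivFinOfCardPos (α := G) Nat.card_pos.ne').symm.apply_symm_apply _ }

theorem idx_of_congr {H : Type*} [Group H] [Finite G] [Finite H] (e : G ≃* H) :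
    Idx.of G = Idx.of H := by
  exact Quotient.sound (s := FinGrp.setoid) ⟨(ofEquiv G).trans (e.trans (ofEquiv H).symm)⟩

theorem cl_congr {H : Type*} [Group H] [Finite G] [Finite H] (e : G ≃* H) : cl G = cl H := by
  rw [cl, cl, idx_of_congr e]

theorem exists_rep_equiv [Finite G] : Nonempty ((Idx.of G).rep ≃* G) := by
  obtain ⟨e⟩ : FinGrp.setoid.r (Quotient.out (s := FinGrp.setoid) (Idx.of G)) (FinGrp.of G) :=
    Quotient.exact (Quotient.out_eq _)
  exact ⟨e.trans (ofEquiv G)⟩

theorem idx_of_rep (i : Idx) : Idx.of i.rep = i :=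
  (Quotient.sound (s := FinGrp.setoid) (a := FinGrp.of i.rep) (b := Quotient.out (s := FinGrp.setoid) i)
    ⟨ofEquiv i.rep⟩).trans (Quotient.out_eq i)

theorem cl_rep (i : Idx) : cl i.rep = Finsupp.single i 1 := by rw [cl, idx_of_rep]

theorem card_of [Finite G] : (Idx.of G).card = Nat.card G := by
  obtain ⟨e⟩ := exists_rep_equiv (G := G)
  exact Nat.card_congr e.toEquiv

theorem centerCard_of [Finite G] : (Idx.of G).centerCard = Nat.card (Subgroup.center G) := by
  obtain ⟨e⟩ := exists_rep_equiv (G := G)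
  exact Nat.card_congr (Subgroup.centerCongr e).toEquiv

/-- Conjugation of a tuple. -/
def conjT {r : ℕ} (g : G) (s : CommTuple G r) : CommTuple G r :=
  ⟨fun i => g * s.1 i * g⁻¹, fun i j h => s.2.1 (mul_left_cancel (mul_right_cancel h)),
    fun i j => (s.2.2 i j).map (MulAut.conj g).toMonoidHom⟩

instance (r : ℕ) : MulAction G (CommTuple G r) where
  smul := conjT
  one_smul s := Subtype.ext (funext fun i => by
    change 1 * s.1 i * 1⁻¹ = _
    group)
  mul_smul g h s := Subtype.ext (funext fun i => by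
    change g * h * s.1 i * (g * h)⁻¹ = g * (h * s.1 i * h⁻¹) * g⁻¹
    group)

theorem smul_tuple {r : ℕ} (g : G) (s : CommTuple G r) (i : Fin r) :
    (g • s).1 i = g * s.1 i * g⁻¹ := rfl

/-- The centralizer of a tuple. -/
abbrev cz {r : ℕ} (s : CommTuple G r) : Subgroup G := Subgroup.centralizer (Set.range s.1)

theorem mem_cz {r : ℕ} {s : CommTuple G r} {g : G} : g ∈ cz s ↔ ∀ i, s.1 i * g = g * s.1 i := by
  simp [Subgroup.mem_centralizer_iff]

theorem stabilizer_eq {r : ℕ} (s : CommTuple G r) : MulAction.stabilizer G s = cz s := by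
  ext g
  rw [MulAction.mem_stabilizer_iff, mem_cz]
  constructor
  · intro h i
    have e : g * s.1 i * g⁻¹ = s.1 i := congr_fun (congrArg Subtype.val h) i
    exact (mul_inv_eq_iff_eq_mul.mp e).symm
  · intro h
    exact Subtype.ext (funext fun i => mul_inv_eq_iff_eq_mul.mpr (h i).symm)

theorem setoid_iff {r : ℕ} (s t : CommTuple G r) :
    (CommTuple.setoid G r).r s t ↔ t ∈ MulAction.orbit G s := by
  constructor
  · rintro ⟨g, hg⟩
    exact ⟨g, Subtype.ext (funext hg)⟩
  · rintro ⟨g, rfl⟩
    exact ⟨g, fun i => rfl⟩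

theorem cz_smul {r : ℕ} (g : G) (s : CommTuple G r) :
    cz (g • s) = (cz s).map (MulAut.conj g).toMonoidHom := by
  ext x
  rw [Subgroup.mem_map_equiv, mem_cz, mem_cz]
  refine forall_congr' fun i => ?_
  rw [smul_tuple, MulAut.conj_symm_apply]
  constructor
  · intro h
    calc s.1 i * (g⁻¹ * x * g) = g⁻¹ * ((g * s.1 i * g⁻¹) * x) * g := by group
      _ = g⁻¹ * (x * (g * s.1 i * g⁻¹)) * g := by rw [h]
      _ = g⁻¹ * x * g * s.1 i := by group
  · intro h
    calc g * s.1 i * g⁻¹ * x = g * (s.1 i * (g⁻¹ * x * g)) * g⁻¹ := by group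
      _ = g * (g⁻¹ * x * g * s.1 i) * g⁻¹ := by rw [h]
      _ = x * (g * s.1 i * g⁻¹) := by group

/-- A single element as a tuple. -/
def one {H : Type u} [Group H] (x : H) : CommTuple H 1 :=
  ⟨fun _ => x, fun i j _ => Subsingleton.elim i j, fun _ _ => Commute.refl _⟩

section Finite

variable [Finite G]

instance (r : ℕ) : Finite (CommTuple G r) :=
  inferInstanceAs (Finite { s : Fin r → G // Function.Injective s ∧ ∀ i j, Commute (s i) (s j) })

/-- The weighted class of a tuple. -/
noncomputable def wcl {r : ℕ} (s : CommTuple G r) : K :=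
  ((Nat.card (cz s) : ℚ) / Nat.card G) • cl (cz s)

theorem wcl_of_eq {r : ℕ} (s : CommTuple G r) {H : Subgroup G} (h : cz s = H) :
    wcl s = ((Nat.card H : ℚ) / Nat.card G) • cl H := by
  subst h
  rfl

theorem wcl_top {r : ℕ} (s : CommTuple G r) (h : cz s = ⊤) : wcl s = cl G := by
  rw [wcl_of_eq s h, Nat.card_congr Subgroup.topEquiv.toEquiv, cl_congr Subgroup.topEquiv,
    div_self (Nat.cast_ne_zero.mpr Nat.card_pos.ne'), one_smul]

theorem wcl_smul {r : ℕ} (g : G) (s : CommTuple G r) : wcl (g • s) = wcl s := by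
  have e := (cz s).equivMapOfInjective (MulAut.conj g).toMonoidHom (MulAut.conj g).injective
  rw [wcl_of_eq _ (cz_smul g s), wcl, Nat.card_congr e.symm.toEquiv, cl_congr e.symm]

theorem inertiaROf_eq (r : ℕ) [Fintype (CommTuple G r)] :
    inertiaROf r G = ∑ s : CommTuple G r, wcl s := by
  classical
  have : Fintype (CommTuple.Orbit G r) :=
    have : Finite (CommTuple.Orbit G r) := Quotient.finite _
    Fintype.ofFinite _
  let q : CommTuple G r → CommTuple.Orbit G r := Quotient.mk _
  rw [inertiaROf, finsum_eq_sum_of_fintype, ← Finset.sum_fiberwise_of_maps_to (g := q)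
    (t := Finset.univ) (fun s _ => Finset.mem_univ _)]
  refine Finset.sum_congr rfl fun O _ => ?_
  set t := Quotient.out (s := CommTuple.setoid G r) O
  have hfib : ∀ s, q s = O ↔ s ∈ MulAction.orbit G t := fun s => by
    rw [← setoid_iff]
    constructor
    · intro h
      exact Quotient.exact ((Quotient.out_eq O).trans h.symm)
    · intro h
      exact (Quotient.sound h).symm.trans (Quotient.out_eq O)
  have hw : ∀ s ∈ Finset.univ.filter (fun s => q s = O), wcl s = wcl t := fun s hs => by
    obtain ⟨g, rfl⟩ := (hfib s).mp (Finset.mem_filter.mp hs).2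
    exact wcl_smul g t
  rw [Finset.sum_congr rfl hw, Finset.sum_const]
  have hcard : (Finset.univ.filter (fun s => q s = O)).card = Nat.card (MulAction.orbit G t) := by
    rw [Nat.card_eq_card_toFinset]
    congr 1
    ext s
    simp [hfib]
  rw [hcard, wcl, ← Nat.cast_smul_eq_nsmul ℚ, smul_smul]
  have h1 : Nat.card (MulAction.orbit G t) * Nat.card (cz t) = Nat.card G := by
    rw [← stabilizer_eq, Nat.card_congr (MulAction.orbitEquivQuotientStabilizer G t),
      mul_comm, ← Subgroup.index, Subgroup.card_mul_index]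
  have h2 : (Nat.card G : ℚ) ≠ 0 := Nat.cast_ne_zero.mpr Nat.card_pos.ne'
  rw [mul_div_assoc', ← Nat.cast_mul, h1, div_self h2, one_smul]

theorem inertiaROf_congr {H : Type*} [Group H] [Finite H] (e : G ≃* H) (r : ℕ) :
    inertiaROf r G = inertiaROf r H := by
  classical
  haveI := Fintype.ofFinite (CommTuple G r)
  haveI := Fintype.ofFinite (CommTuple H r)
  rw [inertiaROf_eq, inertiaROf_eq]
  refine Fintype.sum_equiv
    ({ toFun := fun s => ⟨e ∘ s.1, e.injective.comp s.2.1, fun i j => (s.2.2 i j).map e⟩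
       invFun := fun s => ⟨e.symm ∘ s.1, e.symm.injective.comp s.2.1, fun i j => (s.2.2 i j).map e.symm⟩
       left_inv := fun s => Subtype.ext (funext fun i => e.symm_apply_apply _)
       right_inv := fun s => Subtype.ext (funext fun i => e.apply_symm_apply _) } :
      CommTuple G r ≃ CommTuple H r) _ _ (fun s => ?_)
  have hm : cz (⟨e ∘ s.1, e.injective.comp s.2.1, fun i j => (s.2.2 i j).map e⟩ : CommTuple H r) =
      (cz s).map e.toMonoidHom := by
    ext x
    refine (mem_cz.trans ?_).trans (Subgroup.mem_map_equiv.trans mem_cz).symm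
    refine forall_congr' fun i => ?_
    conv_rhs => rw [← e.injective.eq_iff]
    simp only [map_mul, e.apply_symm_apply]
    rfl
  have e' := (cz s).equivMapOfInjective e.toMonoidHom e.injective
  change wcl s = wcl (⟨e ∘ s.1, _⟩ : CommTuple H r)
  rw [wcl_of_eq _ hm, wcl, Nat.card_congr e'.toEquiv, cl_congr e', Nat.card_congr e.toEquiv]

theorem inertiaR_cl (r : ℕ) : inertiaR r (cl G) = inertiaROf r G := by
  obtain ⟨e⟩ := exists_rep_equiv (G := G)
  rw [inertiaR, cl, Finsupp.linearCombination_single, one_smul, inertiaROf_congr e]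

theorem inertiaR_zero_cl : inertiaR 0 (cl G) = cl G := by
  classical
  haveI := Fintype.ofFinite (CommTuple G 0)
  rw [inertiaR_cl, inertiaROf_eq]
  let s₀ : CommTuple G 0 := ⟨Fin.elim0, fun i => i.elim0, fun i => i.elim0⟩
  rw [Fintype.sum_eq_single s₀ (fun s hs => absurd (Subtype.ext (funext fun i => i.elim0)) hs)]
  have ht : cz s₀ = ⊤ := eq_top_iff.mpr fun g _ => mem_cz.mpr fun i => i.elim0
  exact wcl_top s₀ ht

theorem cl_cz_snoc {r : ℕ} (s : CommTuple G r) (x : CommTuple (cz s) 1)
    (t : CommTuple G (r + 1)) (ht : t.1 = Fin.snoc s.1 ((x.1 0 : G))) :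
    Nonempty (cz x ≃* cz t) := by
  refine ⟨(Subgroup.equivMapOfInjective _ (cz s).subtype (cz s).subtype_injective).trans
    (MulEquiv.subgroupCongr ?_)⟩
  ext g
  rw [mem_cz, ht]
  constructor
  · rintro ⟨y, hy, rfl⟩ i
    refine Fin.lastCases ?_ (fun j => ?_) i
    · rw [Fin.snoc_last]
      exact congrArg Subtype.val (mem_cz.mp hy 0)
    · rw [Fin.snoc_castSucc]
      exact mem_cz.mp y.2 j
  · intro h
    have hg : g ∈ cz s := mem_cz.mpr fun j => by simpa using h j.castSucc
    refine ⟨⟨g, hg⟩, mem_cz.mpr fun i => Subtype.ext ?_, rfl⟩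
    rw [show i = 0 from Subsingleton.elim _ _]
    simpa using h (Fin.last r)

theorem wcl_snoc {r : ℕ} (s : CommTuple G r) (y : cz s) (t : CommTuple G (r + 1))
    (ht : t.1 = Fin.snoc s.1 (y : G)) :
    ((Nat.card (cz (one y)) : ℚ) / Nat.card G) • cl (cz (one y)) = wcl t := by
  obtain ⟨e⟩ := cl_cz_snoc s (one y) t ht
  rw [wcl, Nat.card_congr e.toEquiv, cl_congr e]

theorem inertia_inertiaR_cl (r : ℕ) :
    inertia (inertiaR r (cl G)) = (r : ℚ) • inertiaR r (cl G) + inertiaR (r + 1) (cl G) := by
  classical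
  haveI := Fintype.ofFinite G
  haveI := Fintype.ofFinite (CommTuple G r)
  haveI := Fintype.ofFinite (CommTuple G (r + 1))
  haveI : ∀ s : CommTuple G r, Fintype (CommTuple (cz s) 1) := fun s => Fintype.ofFinite _
  let T : (s : CommTuple G r) → cz s → K := fun s x =>
    if (x : G) ∈ Set.range s.1 then wcl s
    else ((Nat.card (cz (one x)) : ℚ) / Nat.card G) • cl (cz (one x))
  have hL : ∀ s : CommTuple G r, inertia (wcl s) = ∑ x : cz s, T s x := fun s => by
    rw [wcl, map_smul, inertia, inertiaR_cl, inertiaROf_eq, Finset.smul_sum]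
    refine Fintype.sum_equiv
      { toFun := fun x => x.1 0
        invFun := one
        left_inv := fun x => Subtype.ext (funext fun i => by rw [Subsingleton.elim i 0]; rfl)
        right_inv := fun x => rfl } _ _ fun x => ?_
    obtain ⟨y, rfl⟩ : ∃ y, one y = x :=
      ⟨x.1 0, Subtype.ext (funext fun i => by rw [Subsingleton.elim i 0]; rfl)⟩
    change _ = T s y
    simp only [T]
    split_ifs with h
    · obtain ⟨j, hj⟩ := h
      have htop : cz (one y) = ⊤ := eq_top_iff.mpr fun z _ => mem_cz.mpr fun i => Subtype.ext (by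
        change (y : G) * z = z * (y : G)
        rw [← hj]
        exact mem_cz.mp z.2 j)
      rw [wcl_top (one y) htop, wcl]
    · rw [wcl, smul_smul, div_mul_div_comm, mul_comm (Nat.card (cz s) : ℚ),
        mul_div_mul_right _ _ (Nat.cast_ne_zero.mpr Nat.card_pos.ne')]
  rw [inertiaR_cl, inertiaR_cl, inertiaROf_eq, inertiaROf_eq, map_sum, Finset.sum_congr rfl fun s _ => hL s]
  have hsplit : ∀ s : CommTuple G r, (∑ x : cz s, T s x) = (r : ℚ) • wcl s +
      ∑ x ∈ Finset.univ.filter (fun x : cz s => (x : G) ∉ Set.range s.1), T s x := fun s => by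
    rw [← Finset.sum_filter_add_sum_filter_not Finset.univ (fun x : cz s => (x : G) ∈ Set.range s.1)]
    congr 1
    rw [Finset.sum_congr rfl fun x hx => show T s x = wcl s from if_pos (Finset.mem_filter.mp hx).2,
      Finset.sum_const, Nat.cast_smul_eq_nsmul]
    congr 1
    let f : Fin r → cz s := fun i => ⟨s.1 i, mem_cz.mpr fun j => s.2.2 j i⟩
    have hf : Finset.univ.filter (fun x : cz s => (x : G) ∈ Set.range s.1) = Finset.univ.image f := by
      ext x
      simp only [Finset.mem_filter, Finset.mem_univ, true_and, Finset.mem_image, Set.mem_range]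
      exact exists_congr fun i => ⟨fun e => Subtype.ext e, fun e => congrArg Subtype.val e⟩
    rw [hf, Finset.card_image_of_injective _ fun i j h => s.2.1 (congrArg Subtype.val h),
      Finset.card_univ, Fintype.card_fin]
  rw [Finset.sum_congr rfl fun s _ => hsplit s, Finset.sum_add_distrib, ← Finset.smul_sum,
    Finset.sum_sigma']
  congr 1
  refine Finset.sum_bij'
    (i := fun p hp => ⟨Fin.snoc p.1.1 (p.2 : G),
      Fin.snoc_injective_iff.mpr ⟨p.1.2.1, (Finset.mem_filter.mp (Finset.mem_sigma.mp hp).2).2⟩,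
      fun i j => Fin.lastCases (Fin.lastCases (by simp) (fun j => by
          rw [Fin.snoc_last, Fin.snoc_castSucc]; exact Commute.symm (mem_cz.mp p.2.2 j)) j)
        (fun i => Fin.lastCases (by
          rw [Fin.snoc_last, Fin.snoc_castSucc]; exact mem_cz.mp p.2.2 i)
          (fun j => by simpa using p.1.2.2 i j) j) i⟩)
    (j := fun t _ => ⟨⟨Fin.init t.1, fun a b h => Fin.castSucc_injective _ (t.2.1 h),
      fun a b => t.2.2 _ _⟩, ⟨t.1 (Fin.last r), mem_cz.mpr fun a => t.2.2 _ _⟩⟩)
    (fun p hp => Finset.mem_univ _) (fun t _ => ?_) (fun p hp => ?_) (fun t _ => ?_) (fun p hp => ?_)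
  · refine Finset.mem_sigma.mpr ⟨Finset.mem_univ _, Finset.mem_filter.mpr ⟨Finset.mem_univ _, ?_⟩⟩
    rintro ⟨a, ha⟩
    exact (Fin.castSucc_lt_last a).ne (t.2.1 ha)
  · refine Sigma.subtype_ext (Subtype.ext ?_) ?_ <;> simp
  · exact Subtype.ext (Fin.snoc_init_self _)
  · simp only [T]
    rw [if_neg (Finset.mem_filter.mp (Finset.mem_sigma.mp hp).2).2]
    exact wcl_snoc _ _ _ rfl

theorem inertiaR_cl_eq_zero {r : ℕ} (h : Nat.card G < r) : inertiaR r (cl G) = 0 := by
  classical
  haveI := Fintype.ofFinite (CommTuple G r)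
  rw [inertiaR_cl, inertiaROf_eq]
  refine Fintype.sum_eq_zero _ fun s => absurd (Nat.card_le_card_of_injective s.1 s.2.1) ?_
  rw [Nat.card_eq_fintype_card (α := Fin r), Fintype.card_fin]
  omega

end Finite

theorem hom_ext {φ ψ : K →ₗ[ℚ] K} (h : ∀ i : Idx, φ (cl i.rep) = ψ (cl i.rep)) : φ = ψ :=
  Finsupp.lhom_ext' fun i => LinearMap.ext_ring (by simpa [cl_rep] using h i)

theorem inertia_comp (r : ℕ) :
    inertia ∘ₗ inertiaR r = (r : ℚ) • inertiaR r + inertiaR (r + 1) :=
  hom_ext fun _ => inertia_inertiaR_cl r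

/-- The operators are falling factorials. -/
theorem inertiaR_eq_aeval : ∀ r : ℕ, inertiaR r = aeval inertia (descPochhammer ℚ r)
  | 0 => by
    rw [descPochhammer_zero, map_one]
    exact hom_ext fun _ => inertiaR_zero_cl
  | r + 1 => by
    refine LinearMap.ext fun v => ?_
    have h := LinearMap.congr_fun (inertia_comp r) v
    rw [LinearMap.comp_apply, LinearMap.add_apply, LinearMap.smul_apply] at h
    rw [descPochhammer_succ_right, mul_comm, map_mul, Module.End.mul_apply, ← inertiaR_eq_aeval r,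
      map_sub, aeval_X, map_natCast, LinearMap.sub_apply, Module.End.natCast_apply, h,
      ← Nat.cast_smul_eq_nsmul ℚ, add_sub_cancel_left]

theorem inertiaR_of_mem_eigenspace {k : ℚ} {v : K} (hv : v ∈ Module.End.eigenspace inertia k) (r : ℕ) :
    inertiaR r v = (descPochhammer ℚ r).eval k • v := by
  rcases eq_or_ne v 0 with rfl | h0
  · simp
  rw [inertiaR_eq_aeval]
  exact Module.End.aeval_apply_of_hasEigenvector ⟨hv, h0⟩

theorem ker_inertiaR : ∀ r : ℕ,
    LinearMap.ker (inertiaR r) = ⨆ k ∈ Finset.range r, Module.End.eigenspace inertia (k : ℚ)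
  | 0 => by
    rw [inertiaR_eq_aeval, descPochhammer_zero, map_one]
    simp [Module.End.one_eq_id]
  | r + 1 => by
    have hcop : IsCoprime (descPochhammer ℚ r) (X - (r : ℚ[X])) := by
      rw [← Polynomial.C_eq_natCast]
      refine ((Polynomial.irreducible_X_sub_C _).coprime_iff_not_dvd.mpr fun h => ?_).symm
      rw [Polynomial.dvd_iff_isRoot, Polynomial.IsRoot, descPochhammer_eval_eq_descFactorial] at h
      exact Nat.factorial_ne_zero r (by rw [← Nat.descFactorial_self]; exact_mod_cast h)
    rw [inertiaR_eq_aeval, descPochhammer_succ_right,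
      ← Polynomial.sup_ker_aeval_eq_ker_aeval_mul_of_coprime _ hcop, ← inertiaR_eq_aeval,
      ker_inertiaR r, Finset.range_add_one, Finset.iSup_insert, sup_comm, Module.End.eigenspace_def]
    congr 2
    rw [map_sub, aeval_X, map_natCast]
    ext v
    simp [Nat.cast_smul_eq_nsmul]

theorem mem_iSup_eigenspace (v : K) : v ∈ ⨆ k : ℕ, Module.End.eigenspace inertia (k : ℚ) := by
  induction v using Finsupp.induction_linear with
  | zero => exact zero_mem _
  | add a b ha hb => exact add_mem ha hb
  | single i c =>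
    rw [show Finsupp.single i c = c • Finsupp.single i (1 : ℚ) by simp, ← cl_rep]
    refine Submodule.smul_mem _ _ ?_
    have h : cl i.rep ∈ LinearMap.ker (inertiaR (Nat.card i.rep + 1)) :=
      inertiaR_cl_eq_zero (Nat.lt_succ_self _)
    rw [ker_inertiaR] at h
    exact (iSup₂_le fun k _ => le_iSup (fun k : ℕ => Module.End.eigenspace inertia (k : ℚ)) k) h

theorem exists_eq_zero (v : K) : ∃ N, ∀ r, N ≤ r → inertiaR r v = 0 := by
  induction v using Finsupp.induction_linear with
  | zero => exact ⟨0, fun r _ => map_zero _⟩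
  | add a b ha hb =>
    obtain ⟨M, hM⟩ := ha
    obtain ⟨N, hN⟩ := hb
    exact ⟨max M N, fun r hr => by
      rw [map_add, hM r (le_of_max_le_left hr), hN r (le_of_max_le_right hr), add_zero]⟩
  | single i c =>
    refine ⟨Nat.card i.rep + 1, fun r hr => ?_⟩
    rw [show Finsupp.single i c = c • Finsupp.single i (1 : ℚ) by simp, ← cl_rep, map_smul,
      inertiaR_cl_eq_zero hr, smul_zero]

theorem cz_le_center {r : ℕ} (s : CommTuple G r) (h : ∀ i, s.1 i ∈ Subgroup.center G) : cz s = ⊤ :=
  eq_top_iff.mpr fun g _ => mem_cz.mpr fun i => (Subgroup.mem_center_iff.mp (h i) g).symm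

theorem center_lt {r : ℕ} [Finite G] (s : CommTuple G r) {i : Fin r} (h : s.1 i ∉ Subgroup.center G) :
    Nat.card (Subgroup.center G) < Nat.card (Subgroup.center (cz s)) := by
  have hz : ∀ z ∈ Subgroup.center G, z ∈ cz s := fun z hz =>
    mem_cz.mpr fun j => Subgroup.mem_center_iff.mp hz _
  let f : Subgroup.center G → Subgroup.center (cz s) := fun z => ⟨⟨z.1, hz _ z.2⟩,
    Subgroup.mem_center_iff.mpr fun y => Subtype.ext (Subgroup.mem_center_iff.mp z.2 y.1)⟩
  have hf : Function.Injective f := fun a b e =>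
    Subtype.ext (congrArg (fun t : Subgroup.center (cz s) => (t.1 : G)) e)
  refine lt_of_le_of_ne (Nat.card_le_card_of_injective f hf) fun e => h ?_
  obtain ⟨z, hz'⟩ := ((Nat.bijective_iff_injective_and_card f).mpr ⟨hf, e⟩).2
    ⟨⟨s.1 i, mem_cz.mpr fun j => s.2.2 j i⟩,
      Subgroup.mem_center_iff.mpr fun y => Subtype.ext (mem_cz.mp y.2 i).symm⟩
  have : (z : G) = s.1 i := congrArg (fun t : Subgroup.center (cz s) => (t.1 : G)) hz'
  rw [← this]
  exact z.2

theorem single_mem_Kge [Finite G] {k : ℕ} (c : ℚ) (h : k ≤ Nat.card (Subgroup.center G)) :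
    c • cl G ∈ Kge k := by
  refine Submodule.smul_mem _ _ (Finsupp.single_mem_supported ℚ _ ?_)
  change k ≤ _
  rwa [centerCard_of]

theorem inertiaR_sub_mem (r k : ℕ) [Finite G] (hk : k ≤ Nat.card (Subgroup.center G)) :
    inertiaR r (cl G) - ((Nat.factorial r * Nat.choose k r : ℕ) : ℚ) • cl G ∈ Kge (k + 1) := by
  classical
  haveI := Fintype.ofFinite (CommTuple G r)
  rw [inertiaR_cl, inertiaROf_eq,
    ← Finset.sum_filter_add_sum_filter_not Finset.univ (fun s : CommTuple G r => ∀ i, s.1 i ∈ Subgroup.center G)]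
  rw [add_sub_right_comm]
  refine add_mem ?_ (Submodule.sum_mem _ fun s hs => ?_)
  · rw [Finset.sum_congr rfl fun s hs => wcl_top s (cz_le_center s (Finset.mem_filter.mp hs).2),
      Finset.sum_const, ← Nat.cast_smul_eq_nsmul ℚ, ← sub_smul]
    rcases eq_or_lt_of_le hk with h | h
    · haveI := Fintype.ofFinite (Subgroup.center G)
      have hc : (Finset.univ.filter fun s : CommTuple G r => ∀ i, s.1 i ∈ Subgroup.center G).card =
          Fintype.card (Fin r ↪ Subgroup.center G) := by
        rw [← Fintype.card_subtype]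
        exact Fintype.card_congr
          { toFun := fun s => ⟨fun i => ⟨s.1.1 i, s.2 i⟩, fun a b e => s.1.2.1 (congrArg Subtype.val e)⟩
            invFun := fun e => ⟨⟨fun i => (e i).1, fun a b h => e.injective (Subtype.ext h),
              fun a b => (Subgroup.mem_center_iff.mp (e b).2 _)⟩, fun i => (e i).2⟩
            left_inv := fun s => rfl
            right_inv := fun e => rfl }
      rw [hc, Fintype.card_embedding_eq, Fintype.card_fin, ← Nat.card_eq_fintype_card, ← h,
        Nat.descFactorial_eq_factorial_mul_choose, sub_self, zero_smul]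
      exact zero_mem _
    · exact single_mem_Kge _ h
  · rw [Finset.mem_filter, not_forall] at hs
    obtain ⟨i, hi⟩ := hs.2
    exact single_mem_Kge _ (Nat.succ_le_of_lt (lt_of_le_of_lt hk (center_lt s hi)))

end InertiaLib
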