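import Groth.Agent.InertiaLib.Basic
import Mathlib.Data.ZMod.Basic
import Mathlib.Data.Nat.Choose.Sum
import Mathlib.Algebra.BigOperators.Finprod

/-!
# The spectrum and the eigenprojections of the inertia operator
-/

namespace InertiaLib

open W4c5stacksedinertia

theorem inertiaR_sub_mem_Kge (r k : ℕ) {v : K} (hv : v ∈ Kge k) :
    inertiaR r v - ((Nat.factorial r * Nat.choose k r : ℕ) : ℚ) • v ∈ Kge (k + 1) := by
  rw [Kge, Finsupp.supported_eq_span_single] at hv
  induction hv using Submodule.span_induction with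
  | mem w hw =>
    obtain ⟨i, hi, rfl⟩ := hw
    simp only [← cl_rep]
    exact inertiaR_sub_mem r k hi
  | zero => simp
  | add a b _ _ ha hb =>
    rw [map_add, smul_add, add_sub_add_comm]
    exact add_mem ha hb
  | smul c a _ ha =>
    rw [map_smul, smul_comm, ← smul_sub]
    exact Submodule.smul_mem _ _ ha

theorem inertia_eq_zero {v : K} (h : inertia v = 0) : v = 0 := by
  by_contra h0
  obtain ⟨i, hi, hmin⟩ := v.support.exists_min_image Idx.centerCard
    (Finsupp.support_nonempty_iff.mpr h0)
  have hv : v ∈ Kge i.centerCard := fun j hj => hmin j hj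
  have h1 := inertiaR_sub_mem_Kge 1 i.centerCard hv
  have h2 : inertiaR 1 v = 0 := h
  rw [h2, zero_sub, neg_mem_iff, Nat.factorial_one, one_mul, Nat.choose_one_right] at h1
  have hc : (i.centerCard : ℚ) ≠ 0 := Nat.cast_ne_zero.mpr (by
    exact (Nat.card_pos (α := Subgroup.center i.rep)).ne')
  have h3 : i.centerCard + 1 ≤ i.centerCard := by
    refine h1 ?_
    rw [Finset.mem_coe, Finsupp.mem_support_iff, Finsupp.smul_apply, smul_eq_mul]
    exact mul_ne_zero hc (Finsupp.mem_support_iff.mp hi)
  omega

theorem inertia_cl_comm {G : Type*} [CommGroup G] [Finite G] :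
    inertia (cl G) = (Nat.card G : ℚ) • cl G := by
  classical
  have := Fintype.ofFinite G
  have := Fintype.ofFinite (CommTuple G 1)
  rw [inertia, inertiaR_cl, inertiaROf_eq,
    Finset.sum_congr rfl fun s _ => wcl_top s (cz_le_center s fun i =>
      Subgroup.mem_center_iff.mpr fun g => mul_comm g _),
    Finset.sum_const, Finset.card_univ, Nat.cast_smul_eq_nsmul, Nat.card_eq_fintype_card]
  congr 1
  exact Fintype.card_congr
    { toFun := fun x => x.1 0
      invFun := one
      left_inv := fun x => Subtype.ext (funext fun i => by rw [Subsingleton.elim i 0]; rfl)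
      right_inv := fun x => rfl }

theorem hasEigenvalue_iff (μ : ℚ) :
    Module.End.HasEigenvalue inertia μ ↔ ∃ n : ℕ, 0 < n ∧ μ = (n : ℚ) := by
  constructor
  · intro h
    have hn : ∃ n : ℕ, μ = (n : ℚ) := by
      by_contra hne
      push Not at hne
      apply h
      have hd := (Module.End.eigenspaces_iSupIndep inertia) μ
      refine disjoint_top.mp (hd.mono_right ?_)
      intro v _
      exact (iSup_le fun n : ℕ => le_iSup₂ (f := fun ν (_ : ν ≠ μ) => Module.End.eigenspace inertia ν)
        (n : ℚ) fun e => hne n e.symm) (mem_iSup_eigenspace v)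
    obtain ⟨n, rfl⟩ := hn
    refine ⟨n, Nat.pos_of_ne_zero ?_, rfl⟩
    rintro rfl
    obtain ⟨v, hv⟩ := h.exists_hasEigenvector
    exact hv.2 (inertia_eq_zero (by simpa using hv.apply_eq_smul))
  · rintro ⟨n, hn, rfl⟩
    have : NeZero n := ⟨hn.ne'⟩
    refine Module.End.hasEigenvalue_of_hasEigenvector (x := cl (Multiplicative (ZMod n))) ⟨?_, ?_⟩
    · rw [Module.End.mem_eigenspace_iff, inertia_cl_comm,
        Nat.card_congr (Multiplicative.toAdd (α := ZMod n)), Nat.card_zmod]
    · exact Finsupp.single_ne_zero.mpr one_ne_zero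

theorem eval_descPochhammer (k r : ℕ) :
    (descPochhammer ℚ r).eval (k : ℚ) = ((Nat.factorial r * Nat.choose k r : ℕ) : ℚ) := by
  rw [descPochhammer_eval_eq_descFactorial, Nat.descFactorial_eq_factorial_mul_choose]

/-- The coefficient of the eigenprojection. -/
def coef (k r : ℕ) : ℚ := ((-1 : ℚ) ^ (r + k)) / (Nat.factorial r : ℚ) * (Nat.choose r k : ℚ)

/-- The eigenprojection. -/
noncomputable def proj (k : ℕ) (v : K) : K := ∑ᶠ r : ℕ, coef k r • inertiaR r v

theorem finite_supp (k : ℕ) (v : K) :
    (Function.support fun r : ℕ => coef k r • inertiaR r v).Finite := by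
  obtain ⟨N, hN⟩ := exists_eq_zero v
  refine (Set.finite_Iio N).subset fun r hr => ?_
  by_contra h
  exact hr (by simp [hN r (not_lt.mp h)])

theorem proj_add (k : ℕ) (a b : K) : proj k (a + b) = proj k a + proj k b := by
  rw [proj, proj, proj, ← finsum_add_distrib (finite_supp k a) (finite_supp k b)]
  simp_rw [map_add, smul_add]

theorem finite_supp_proj (v : K) : (Function.support fun k : ℕ => proj k v).Finite := by
  obtain ⟨N, hN⟩ := exists_eq_zero v
  refine (Set.finite_Iio N).subset fun k hk => ?_
  by_contra h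
  refine hk (finsum_eq_zero_of_forall_eq_zero fun r => ?_)
  rcases lt_or_ge r k with hr | hr
  · simp [coef, Nat.choose_eq_zero_of_lt hr]
  · simp [hN r ((not_lt.mp h).trans hr)]

theorem binom_inv (m k : ℕ) :
    (∑ r ∈ Finset.range (m + 1), (-1 : ℚ) ^ (r + k) * ((r.choose k : ℚ) * m.choose r)) =
      if k = m then 1 else 0 := by
  rcases lt_or_ge m k with h | h
  · rw [if_neg h.ne']
    exact Finset.sum_eq_zero fun r hr => by
      rw [Nat.choose_eq_zero_of_lt (n := r) (k := k) (by grind)]; simp
  · rw [← Finset.sum_range_add_sum_Ico _ (show k ≤ m + 1 by omega),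
      Finset.sum_eq_zero (s := Finset.range k) fun r hr => by
        rw [Nat.choose_eq_zero_of_lt (Finset.mem_range.mp hr)]; simp,
      zero_add, Finset.sum_Ico_eq_sum_range, show m + 1 - k = m - k + 1 by omega]
    have e : ∀ j ∈ Finset.range (m - k + 1),
        (-1 : ℚ) ^ (k + j + k) * (((k + j).choose k : ℚ) * m.choose (k + j)) =
          (m.choose k : ℚ) * ((((-1) ^ j * ((m - k).choose j : ℤ) : ℤ)) : ℚ) := fun j hj => by
      rw [show k + j + k = j + (k + k) by ring, pow_add, ← two_mul, pow_mul, neg_one_sq, one_pow,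
        mul_one, ← Nat.cast_mul, mul_comm ((k + j).choose k), Nat.choose_mul (Nat.le_add_right k j),
        Nat.add_sub_cancel_left]
      push_cast
      ring
    rw [Finset.sum_congr rfl e, ← Finset.mul_sum, ← Int.cast_sum, Int.alternating_sum_range_choose]
    rcases eq_or_lt_of_le h with h' | h'
    · subst h'; simp
    · rw [if_neg (by omega), if_neg (by omega)]; simp

theorem proj_eigen {m : ℕ} {v : K} (hv : v ∈ Module.End.eigenspace inertia (m : ℚ)) (k : ℕ) :
    proj k v = (if k = m then (1 : ℚ) else 0) • v := by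
  rw [proj, finsum_eq_sum_of_support_subset _ (s := Finset.range (m + 1)), ← binom_inv m k,
    Finset.sum_smul]
  · refine Finset.sum_congr rfl fun r _ => ?_
    rw [inertiaR_of_mem_eigenspace hv, eval_descPochhammer, smul_smul, coef]
    congr 1
    push_cast
    field_simp
  · intro r hr
    by_contra h
    refine hr ?_
    rw [Finset.coe_range, Set.mem_Iio, not_lt] at h
    simp [inertiaR_of_mem_eigenspace hv, eval_descPochhammer, Nat.choose_eq_zero_of_lt h]

theorem proj_spec (v : K) :
    (∀ k : ℕ, proj k v ∈ Module.End.eigenspace inertia (k : ℚ)) ∧ ∑ᶠ k : ℕ, proj k v = v := by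
  induction mem_iSup_eigenspace v using Submodule.iSup_induction' with
  | mem m a ha =>
    refine ⟨fun k => ?_, ?_⟩
    · rw [proj_eigen ha]
      split_ifs with h
      · rw [one_smul, h]; exact ha
      · simp
    · simp_rw [proj_eigen ha]
      rw [finsum_eq_single _ m fun k hk => by simp [hk]]
      simp
  | zero => simp [proj]
  | add a b _ _ ha hb =>
    refine ⟨fun k => ?_, ?_⟩
    · rw [proj_add]
      exact add_mem (ha.1 k) (hb.1 k)
    · simp_rw [proj_add]
      rw [finsum_add_distrib (finite_supp_proj a) (finite_supp_proj b), ha.2, hb.2]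

theorem inertia_mem_Kle {n : ℕ} {v : K} (hv : v ∈ Kle n) : inertia v ∈ Kle n := by
  rw [Kle, Finsupp.supported_eq_span_single] at hv
  induction hv using Submodule.span_induction with
  | mem w hw =>
    obtain ⟨i, hi, rfl⟩ := hw
    classical
    have := Fintype.ofFinite (CommTuple i.rep 1)
    simp only [← cl_rep]
    rw [inertia, inertiaR_cl, inertiaROf_eq]
    refine Submodule.sum_mem _ fun s _ => Submodule.smul_mem _ _ (Finsupp.single_mem_supported ℚ _ ?_)
    change _ ≤ n
    rw [card_of]
    exact (Nat.card_le_card_of_injective _ (cz s).subtype_injective).trans hi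
  | zero => simp
  | add a b _ _ ha hb => rw [map_add]; exact add_mem ha hb
  | smul c a _ ha => rw [map_smul]; exact Submodule.smul_mem _ _ ha

end InertiaLib
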